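import Mathlib

/-!
# Elements of `C ⊗ k'` which are regular on the closed fibre act injectively (helper56)

`A` is a local ring with residue field `k`, `C` a local `A`-algebra (local homomorphism) with
residue field `K`, `k'` an extension field of `k`.  An element `e` of `C ⊗[A] k'` whose image in
`K ⊗[A] k'` is a non-zero-divisor acts injectively on `N ⊗[A] k'` for every `C`-module `N`.

* `act N`: the action of `C ⊗[A] k'` on `N ⊗[A] k'`;
* `coordEquiv b P`: coordinates of `P ⊗[A] k'` with respect to a `k`-basis `b` of `k'`;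
* `act_injective_of_torsion`: the case of a module killed by the maximal ideal of `C`;
* `act_injective`: the general case, by Nakayama's lemma.
-/

set_option autoImplicit false
set_option linter.style.haveILetI false

open TensorProduct IsLocalRing

namespace Groth.Agent.H56.Primary

section Act

variable {A : Type*} [CommRing A] {C : Type*} [CommRing C] [Algebra A C]
  {k' : Type*} [CommRing k'] [Algebra A k']

/-- the action of `C ⊗ k'` on `N ⊗ k'` -/
noncomputable def act (N : Type*) [AddCommGroup N] [Module A N] [Module C N]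
    [IsScalarTower A C N] : C ⊗[A] k' →ₗ[A] Module.End A (N ⊗[A] k') :=
  (TensorProduct.homTensorHomMap (RingHom.id A) N k' N k') ∘ₗ
    (TensorProduct.map (Algebra.lsmul A A N).toLinearMap (Algebra.lsmul A A k').toLinearMap)

variable {N : Type*} [AddCommGroup N] [Module A N] [Module C N] [IsScalarTower A C N]

theorem act_tmul_tmul (c : C) (a : k') (n : N) (b : k') :
    act N (c ⊗ₜ[A] a) (n ⊗ₜ[A] b) = (c • n) ⊗ₜ[A] (a * b) := by
  simp [act, TensorProduct.homTensorHomMap_apply]

variable {N₂ : Type*} [AddCommGroup N₂] [Module A N₂] [Module C N₂] [IsScalarTower A C N₂]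

/-- naturality of the action -/
theorem map_act (g : N →ₗ[C] N₂) (e : C ⊗[A] k') (z : N ⊗[A] k') :
    TensorProduct.map (g.restrictScalars A) (LinearMap.id : k' →ₗ[A] k') (act N e z) =
      act N₂ e (TensorProduct.map (g.restrictScalars A) (LinearMap.id : k' →ₗ[A] k') z) := by
  induction e with
  | zero => simp
  | add e₁ e₂ h₁ h₂ => simp only [map_add, LinearMap.add_apply, h₁, h₂]
  | tmul c a =>
    induction z with
    | zero => simp
    | add z₁ z₂ h₁ h₂ => simp only [map_add, h₁, h₂]
    | tmul n b => simp [act_tmul_tmul]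

end Act

section Coord

variable {A : Type*} [CommRing A] {k : Type*} [CommRing k] [Algebra A k]
  {k' : Type*} [CommRing k'] [Algebra A k'] [Algebra k k'] [IsScalarTower A k k']
  {J : Type*} [DecidableEq J] (b : Module.Basis J k k')

/-- coordinates of `P ⊗[A] k'` with respect to a `k`-basis of `k'` -/
noncomputable def coordEquiv (P : Type*) [AddCommGroup P] [Module A P] :
    P ⊗[A] k' ≃ₗ[A] (J →₀ P ⊗[A] k) :=
  (TensorProduct.congr (LinearEquiv.refl A P) (b.repr.restrictScalars A)) ≪≫ₗ
    TensorProduct.finsuppRight A A P k J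

variable {P : Type*} [AddCommGroup P] [Module A P]

theorem coordEquiv_tmul (p : P) (c : k') (j : J) :
    coordEquiv b P (p ⊗ₜ[A] c) j = p ⊗ₜ[A] (b.repr c j) := by
  simp [coordEquiv, TensorProduct.finsuppRight_apply_tmul_apply]

variable {P₂ : Type*} [AddCommGroup P₂] [Module A P₂]

theorem coordEquiv_map (g : P →ₗ[A] P₂) (z : P ⊗[A] k') (j : J) :
    coordEquiv b P₂ (TensorProduct.map g (LinearMap.id : k' →ₗ[A] k') z) j =
      TensorProduct.map g (LinearMap.id : k →ₗ[A] k) (coordEquiv b P z j) := by
  induction z with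
  | zero => simp
  | add z₁ z₂ h₁ h₂ => simp only [map_add, Finsupp.add_apply, h₁, h₂]
  | tmul p c => simp [coordEquiv_tmul]

end Coord

section Residue

variable {A : Type*} [CommRing A] [IsLocalRing A]

theorem tmul_one_injective {P : Type*} [AddCommGroup P] [Module A P]
    (hP : ∀ a ∈ maximalIdeal A, ∀ p : P, a • p = 0) {p : P}
    (h : p ⊗ₜ[A] (1 : ResidueField A) = 0) : p = 0 := by
  have h1 : TensorProduct.mk A (ResidueField A) P 1 p = 0 := by
    have := congrArg (TensorProduct.comm A P (ResidueField A)) h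
    simpa using this
  have h2 : p ∈ maximalIdeal A • (⊤ : Submodule A P) := by
    rw [← LinearMap.ker_tensorProductMk]
    exact h1
  have h3 : maximalIdeal A • (⊤ : Submodule A P) = ⊥ := by
    rw [eq_bot_iff, Submodule.smul_le]
    intro a ha p _
    rw [hP a ha p]
    exact Submodule.zero_mem _
  rw [h3] at h2
  exact (Submodule.mem_bot _).mp h2

theorem exists_tmul_one {P : Type*} [AddCommGroup P] [Module A P]
    (y : P ⊗[A] ResidueField A) : ∃ p : P, y = p ⊗ₜ[A] (1 : ResidueField A) := by
  induction y with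
  | zero => exact ⟨0, (TensorProduct.zero_tmul _ _).symm⟩
  | tmul p x =>
    obtain ⟨a, rfl⟩ := residue_surjective x
    refine ⟨a • p, ?_⟩
    rw [TensorProduct.smul_tmul]
    congr 1
    rw [Algebra.smul_def, mul_one]
    rfl
  | add y₁ y₂ h₁ h₂ =>
    obtain ⟨p₁, h₁⟩ := h₁
    obtain ⟨p₂, h₂⟩ := h₂
    exact ⟨p₁ + p₂, by rw [TensorProduct.add_tmul, h₁, h₂]⟩

theorem smul_tensor_residue_eq_zero {P : Type*} [AddCommGroup P] [Module A P]
    {a : A} (ha : a ∈ maximalIdeal A) (y : P ⊗[A] ResidueField A) : a • y = 0 := by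
  obtain ⟨p, rfl⟩ := exists_tmul_one y
  rw [TensorProduct.smul_tmul', TensorProduct.smul_tmul, Algebra.smul_def, mul_one]
  have : algebraMap A (ResidueField A) a = 0 := (residue_eq_zero_iff a).mpr ha
  rw [this, TensorProduct.tmul_zero]

variable {k' : Type*} [Field k'] [Algebra A k'] [Algebra (ResidueField A) k']
  [IsScalarTower A (ResidueField A) k']

/-- tensoring with `k'` preserves injections of modules killed by the maximal ideal -/
theorem map_injective_of_torsion {V P : Type*} [AddCommGroup V] [Module A V] [AddCommGroup P]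
    [Module A P] (ι : V →ₗ[A] P) (hι : Function.Injective ι)
    (hP : ∀ a ∈ maximalIdeal A, ∀ p : P, a • p = 0) :
    Function.Injective (TensorProduct.map ι (LinearMap.id : k' →ₗ[A] k')) := by
  classical
  let b := Module.Basis.ofVectorSpace (ResidueField A) k'
  rw [injective_iff_map_eq_zero]
  intro z hz
  apply (coordEquiv b V).injective
  rw [map_zero]
  ext j
  rw [Finsupp.zero_apply]
  have h1 := coordEquiv_map b ι z j
  rw [hz, map_zero, Finsupp.zero_apply] at h1
  obtain ⟨v, hv⟩ := exists_tmul_one (coordEquiv b V z j)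
  rw [hv, TensorProduct.map_tmul, LinearMap.id_apply] at h1
  have h2 : ι v = 0 := tmul_one_injective hP h1.symm
  have h3 : v = 0 := hι (by rw [h2, map_zero])
  rw [hv, h3, TensorProduct.zero_tmul]

end Residue

section Torsion

variable {A : Type*} [CommRing A] {C : Type*} [CommRing C] [IsLocalRing C] [Algebra A C]
  {k' : Type*} [CommRing k'] [Algebra A k']

variable (A C k') in
/-- the reduction map `C ⊗ k' → K ⊗ k'` -/
noncomputable def redMap : C ⊗[A] k' →ₐ[A] ResidueField C ⊗[A] k' :=
  Algebra.TensorProduct.map (IsScalarTower.toAlgHom A C (ResidueField C)) (AlgHom.id A k')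

theorem redMap_tmul (c : C) (a : k') : redMap A C k' (c ⊗ₜ[A] a) = residue C c ⊗ₜ[A] a := by
  simp [redMap]

/-- the action on a module killed by the maximal ideal of `C` -/
theorem act_injective_of_torsion {V : Type*} [AddCommGroup V] [Module A V] [Module C V]
    [IsScalarTower A C V] (hV : ∀ c ∈ maximalIdeal C, ∀ v : V, c • v = 0) (e : C ⊗[A] k')
    (he : redMap A C k' e ∈ nonZeroDivisors (ResidueField C ⊗[A] k')) :
    Function.Injective (act V e) := by
  classical
  have hT : Module.IsTorsionBySet C V (maximalIdeal C : Set C) := fun v a => hV a a.2 v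
  letI : Module (ResidueField C) V := hT.module
  haveI : IsScalarTower C (ResidueField C) V := hT.isScalarTower
  haveI : IsScalarTower A (ResidueField C) V := hT.isScalarTower
  let bV := Module.Basis.ofVectorSpace (ResidueField C) V
  let Ψ : V ⊗[A] k' ≃ₗ[A] (Module.Basis.ofVectorSpaceIndex (ResidueField C) V →₀
      ResidueField C ⊗[A] k') :=
    (TensorProduct.congr (bV.repr.restrictScalars A) (LinearEquiv.refl A k')) ≪≫ₗ
      TensorProduct.finsuppLeft A A (ResidueField C) k' _
  have hΨ : ∀ (v : V) (c : k') i, Ψ (v ⊗ₜ[A] c) i = bV.repr v i ⊗ₜ[A] c := by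
    intro v c i
    simp [Ψ, TensorProduct.finsuppLeft_apply_tmul_apply]
  have key : ∀ (e : C ⊗[A] k') (z : V ⊗[A] k') i, Ψ (act V e z) i = redMap A C k' e * Ψ z i := by
    intro e z i
    induction e with
    | zero => simp
    | add e₁ e₂ h₁ h₂ =>
      simp only [map_add, LinearMap.add_apply, Finsupp.add_apply, h₁, h₂, add_mul]
    | tmul c a =>
      induction z with
      | zero => simp
      | add z₁ z₂ h₁ h₂ => simp only [map_add, Finsupp.add_apply, h₁, h₂, mul_add]
      | tmul v b' =>
        rw [act_tmul_tmul, hΨ, hΨ, redMap_tmul, Algebra.TensorProduct.tmul_mul_tmul]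
        congr 1
        have h1 : c • v = (residue C c) • v := by
          rw [← algebraMap_smul (ResidueField C) c v]
          rfl
        rw [h1, map_smul, Finsupp.smul_apply, smul_eq_mul]
  rw [injective_iff_map_eq_zero]
  intro z hz
  apply Ψ.injective
  rw [map_zero]
  ext i
  rw [Finsupp.zero_apply]
  have h1 := key e z i
  rw [hz, map_zero, Finsupp.zero_apply] at h1
  exact (mul_left_mem_nonZeroDivisors_eq_zero_iff he).mp h1.symm

end Torsion

section Main

variable {A : Type*} [CommRing A] [IsLocalRing A] {C : Type*} [CommRing C] [IsLocalRing C]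
  [Algebra A C] [IsLocalHom (algebraMap A C)]
  {k' : Type*} [Field k'] [Algebra A k'] [Algebra (ResidueField A) k']
  [IsScalarTower A (ResidueField A) k']
  {N : Type*} [AddCommGroup N] [Module A N] [Module C N] [IsScalarTower A C N]

/-- `n ↦ n ⊗ 1` as a `C`-linear map -/
noncomputable def tmulOne : N →ₗ[C] N ⊗[A] ResidueField A where
  toFun := fun n => n ⊗ₜ 1
  map_add' := fun a b => TensorProduct.add_tmul a b 1
  map_smul' := fun c n => by rw [RingHom.id_apply, TensorProduct.smul_tmul']

/-- **regular elements of the closed fibre act injectively** -/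
theorem act_injective (e : C ⊗[A] k')
    (he : redMap A C k' e ∈ nonZeroDivisors (ResidueField C ⊗[A] k')) :
    Function.Injective (act N e) := by
  classical
  let b := Module.Basis.ofVectorSpace (ResidueField A) k'
  rw [injective_iff_map_eq_zero]
  intro z hz
  set ζ := coordEquiv b N z with hζ
  let Zbar : Submodule C (N ⊗[A] ResidueField A) := Submodule.span C (Set.range ζ)
  have hfg : Zbar.FG := Submodule.fg_span (Finsupp.finite_range ζ)
  suffices hZ : Zbar = ⊥ by
    have h0 : ζ = 0 := by
      ext j
      have : ζ j ∈ Zbar := Submodule.subset_span ⟨j, rfl⟩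
      rw [hZ] at this
      rw [Finsupp.zero_apply]
      exact (Submodule.mem_bot _).mp this
    exact (coordEquiv b N).map_eq_zero_iff.mp h0
  refine Submodule.eq_bot_of_le_smul_of_le_jacobson_bot (maximalIdeal C) Zbar hfg ?_
    (by rw [jacobson_eq_maximalIdeal ⊥ bot_ne_top])
  rw [Submodule.span_le]
  rintro _ ⟨j₀, rfl⟩
  -- the quotient `N'' = N̄ / 𝔮 Z̄`
  let π : (N ⊗[A] ResidueField A) →ₗ[C] (N ⊗[A] ResidueField A) ⧸ (maximalIdeal C • Zbar) :=
    Submodule.mkQ _
  let π₀ : N →ₗ[C] (N ⊗[A] ResidueField A) ⧸ (maximalIdeal C • Zbar) := π ∘ₗ tmulOne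
  have hN'' : ∀ a ∈ maximalIdeal A,
      ∀ x : (N ⊗[A] ResidueField A) ⧸ (maximalIdeal C • Zbar), a • x = 0 := by
    intro a ha x
    obtain ⟨y, rfl⟩ := Submodule.Quotient.mk_surjective _ x
    rw [← Submodule.Quotient.mk_smul, smul_tensor_residue_eq_zero ha, Submodule.Quotient.mk_zero]
  -- the submodule `V = π Z̄`, killed by `𝔮`
  let V : Submodule C ((N ⊗[A] ResidueField A) ⧸ (maximalIdeal C • Zbar)) := Zbar.map π
  have hV : ∀ c ∈ maximalIdeal C, ∀ v : V, c • v = 0 := by
    rintro c hc ⟨v, hv⟩
    obtain ⟨y, hy, rfl⟩ := hv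
    apply Subtype.ext
    change c • π y = 0
    rw [← map_smul]
    exact (Submodule.Quotient.mk_eq_zero _).mpr (Submodule.smul_mem_smul hc hy)
  have hmem : ∀ j, π (ζ j) ∈ V := fun j =>
    Submodule.mem_map_of_mem (Submodule.subset_span ⟨j, rfl⟩)
  -- `(π₀ ⊗ id) x = π x ⊗ 1`
  have hπ₀ : ∀ x : N ⊗[A] ResidueField A,
      TensorProduct.map (π₀.restrictScalars A) (LinearMap.id : ResidueField A →ₗ[A] _) x =
        π x ⊗ₜ[A] (1 : ResidueField A) := by
    intro x
    induction x with
    | zero => simp
    | add x₁ x₂ h₁ h₂ => rw [map_add, map_add, TensorProduct.add_tmul, h₁, h₂]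
    | tmul n l =>
      obtain ⟨a, rfl⟩ := residue_surjective l
      rw [TensorProduct.map_tmul, LinearMap.id_apply]
      have h1 : residue A a = a • (1 : ResidueField A) := by
        rw [Algebra.smul_def, mul_one]
        rfl
      rw [h1, TensorProduct.tmul_smul, TensorProduct.tmul_smul, LinearMap.map_smul_of_tower,
        TensorProduct.smul_tmul']
      rfl
  -- the element `z_V`
  let ζV : Module.Basis.ofVectorSpaceIndex (ResidueField A) k' →₀ (V ⊗[A] ResidueField A) :=
    Finsupp.onFinset ζ.support (fun j => (⟨π (ζ j), hmem j⟩ : V) ⊗ₜ[A] (1 : ResidueField A))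
      (by
        intro j hj
        rw [Finsupp.mem_support_iff]
        intro h0
        apply hj
        have : (⟨π (ζ j), hmem j⟩ : V) = 0 :=
          Subtype.ext (show π (ζ j) = 0 by rw [h0, map_zero])
        rw [this, TensorProduct.zero_tmul])
  let zV : V ⊗[A] k' := (coordEquiv b V).symm ζV
  have hzV : TensorProduct.map (V.subtype.restrictScalars A) (LinearMap.id : k' →ₗ[A] k') zV =
      TensorProduct.map (π₀.restrictScalars A) (LinearMap.id : k' →ₗ[A] k') z := by
    apply (coordEquiv b _).injective
    ext j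
    rw [coordEquiv_map, coordEquiv_map, LinearEquiv.apply_symm_apply, ← hζ, hπ₀]
    change TensorProduct.map (V.subtype.restrictScalars A) LinearMap.id
      ((⟨π (ζ j), hmem j⟩ : V) ⊗ₜ[A] (1 : ResidueField A)) = _
    rw [TensorProduct.map_tmul]
    rfl
  -- `e` kills `z_V`
  have hact : act V e zV = 0 := by
    apply map_injective_of_torsion (k' := k') (V.subtype.restrictScalars A)
      V.injective_subtype hN''
    rw [map_zero, map_act V.subtype, hzV, ← map_act π₀, hz, map_zero]
  have hzV0 : zV = 0 := by
    have := act_injective_of_torsion (V := ↥V) hV e he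
    exact (injective_iff_map_eq_zero _).mp this zV hact
  have hζV0 : ζV = 0 := by
    have : coordEquiv b V zV = ζV := LinearEquiv.apply_symm_apply _ _
    rw [← this, hzV0, map_zero]
  have h1 : (⟨π (ζ j₀), hmem j₀⟩ : V) ⊗ₜ[A] (1 : ResidueField A) = 0 := by
    have : ζV j₀ = 0 := by rw [hζV0, Finsupp.zero_apply]
    exact this
  have hVA : ∀ a ∈ maximalIdeal A, ∀ v : V, a • v = 0 := by
    intro a ha v
    apply Subtype.ext
    exact hN'' a ha v.1
  have h2 : (⟨π (ζ j₀), hmem j₀⟩ : V) = 0 := tmul_one_injective hVA h1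
  have h3 : π (ζ j₀) = 0 := congrArg Subtype.val h2
  exact (Submodule.Quotient.mk_eq_zero _).mp h3

end Main

end Groth.Agent.H56.Primary
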