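import Mathlib
import Groth.Agent.H48.SepClosedIn

/-!
# Zero divisors of `k' ⊗ K` are nilpotent when `K / k` is primary (helper56)

* `isNilpotent_of_mul_eq_zero_of_flat_integral`: in an algebra `E` which is flat and integral over a
  domain and has irreducible spectrum, every zero divisor is nilpotent.
* `isDomain_tensor_of_isFractionRing`: `Frac R ⊗ S` is a domain when `R ⊗ S` is.
* `isNilpotent_of_mul_eq_zero`: if `k` is separably closed in `K`, every zero divisor of
  `k' ⊗[k] K` is nilpotent, for an arbitrary field extension `k' / k`.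
-/

set_option autoImplicit false
set_option linter.style.haveILetI false

open TensorProduct

namespace Groth.Agent.H56.Primary

universe u

section Abstract

/-- zero divisors are nilpotent in a flat integral algebra with irreducible spectrum over a
domain -/
theorem isNilpotent_of_mul_eq_zero_of_flat_integral (R₁ : Type*) {E : Type*} [CommRing R₁]
    [IsDomain R₁] [CommRing E] [Algebra R₁ E] [Module.Flat R₁ E] [Algebra.IsIntegral R₁ E]
    [IrreducibleSpace (PrimeSpectrum E)] {e e' : E} (he' : e' ≠ 0) (h : e * e' = 0) :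
    IsNilpotent e := by
  classical
  have hnil : (nilradical E).IsPrime := PrimeSpectrum.irreducibleSpace_iff_isPrime_nilradical.mp
    inferInstance
  set I : Ideal E := (Submodule.span E {e'}).annihilator with hI
  have hmemI : ∀ x : E, x ∈ I ↔ x * e' = 0 := by
    intro x
    rw [hI, Submodule.mem_annihilator_span_singleton, smul_eq_mul]
  have hIne : I ≠ ⊤ := by
    intro htop
    have : (1 : E) ∈ I := htop ▸ Submodule.mem_top
    rw [hmemI, one_mul] at this
    exact he' this
  obtain ⟨J, hJmax, hIJ⟩ := Ideal.exists_le_maximal I hIne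
  haveI : J.IsPrime := hJmax.isPrime
  obtain ⟨p, hp, -⟩ := Ideal.exists_minimalPrimes_le hIJ
  haveI hpprime : p.IsPrime := hp.1.1
  -- `p` contracts to zero
  have hcomap : p.comap (algebraMap R₁ E) = ⊥ := by
    rw [eq_bot_iff]
    intro r hr
    rw [Ideal.mem_comap] at hr
    obtain ⟨y, hyI, hxy⟩ := Ideal.exists_mul_mem_of_mem_minimalPrimes hp hr
    rw [hmemI] at hyI hxy
    by_contra hr0
    have hr0' : r ≠ 0 := fun h0 => hr0 (by rw [h0]; exact Submodule.zero_mem _)
    have hreg : IsSMulRegular E r :=
      Module.Flat.isSMulRegular_of_nonZeroDivisors (mem_nonZeroDivisors_of_ne_zero hr0')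
    have h1 : r • (y * e') = r • (0 : E) := by
      rw [smul_zero, Algebra.smul_def, ← mul_assoc]
      exact hxy
    exact hyI (hreg h1)
  have hle : nilradical E ≤ p := nilradical_le_prime p
  have heq : nilradical E = p := by
    by_contra hne
    have hlt : nilradical E < p := lt_of_le_of_ne hle hne
    have := Ideal.IsIntegral.comap_lt_comap (R := R₁) hlt
    rw [hcomap] at this
    exact not_lt_bot this
  have heI : e ∈ I := (hmemI e).mpr h
  have : e ∈ nilradical E := heq ▸ hp.1.2 heI
  exact mem_nilradical.mp this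

end Abstract

section Frac

/-- `Frac R ⊗ S` is a localization of `R ⊗ S`, hence a domain when the latter is. -/
theorem isDomain_tensor_of_isFractionRing (k : Type u) [Field k] (R F S : Type u) [CommRing R]
    [Field F] [CommRing S] [Algebra k R] [Algebra k F] [Algebra R F] [IsScalarTower k R F]
    [IsFractionRing R F] [Algebra k S] [IsDomain (R ⊗[k] S)]
    (hinj : Function.Injective (algebraMap R (R ⊗[k] S))) : IsDomain (F ⊗[k] S) := by
  letI : Algebra (R ⊗[k] S) (F ⊗[k] S) :=
    (Algebra.TensorProduct.map (IsScalarTower.toAlgHom k R F) (AlgHom.id k S)).toRingHom.toAlgebra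
  haveI : IsScalarTower R (R ⊗[k] S) (F ⊗[k] S) := IsScalarTower.of_algebraMap_eq (fun d => by
    show algebraMap R (F ⊗[k] S) d =
      (Algebra.TensorProduct.map (IsScalarTower.toAlgHom k R F) (AlgHom.id k S))
        (algebraMap R (R ⊗[k] S) d)
    rw [Algebra.TensorProduct.algebraMap_apply, Algebra.TensorProduct.algebraMap_apply]
    simp)
  have H : (algebraMap (R ⊗[k] S) (F ⊗[k] S)).comp
      (Algebra.TensorProduct.includeRight : S →ₐ[k] R ⊗[k] S).toRingHom =
      (Algebra.TensorProduct.includeRight : S →ₐ[k] F ⊗[k] S).toRingHom := by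
    ext a
    show (Algebra.TensorProduct.map (IsScalarTower.toAlgHom k R F) (AlgHom.id k S))
      ((1 : R) ⊗ₜ[k] a) = (1 : F) ⊗ₜ[k] a
    simp
  haveI := IsLocalization.tensorProduct_tensorProduct k S (nonZeroDivisors R) F H
  haveI : Nontrivial R := (algebraMap R (R ⊗[k] S)).domain_nontrivial
  refine IsLocalization.isDomain_of_le_nonZeroDivisors (R := R ⊗[k] S)
    (M := Algebra.algebraMapSubmonoid (R ⊗[k] S) (nonZeroDivisors R)) _ ?_
  rintro _ ⟨r, hr, rfl⟩
  exact mem_nonZeroDivisors_of_ne_zero
    (fun h => nonZeroDivisors.ne_zero hr (hinj (by rw [h, map_zero])))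

end Frac

section Mid

variable {k K k₁ k' : Type u} [Field k] [Field K] [Field k₁] [Field k'] [Algebra k K]
  [Algebra k k₁] [Algebra k₁ k'] [Algebra k k'] [IsScalarTower k k₁ k']

/-- the case of an algebraic extension of a field `k₁` over which `k₁ ⊗ K` is a domain -/
theorem isNilpotent_of_mul_eq_zero_of_isDomain [Algebra.IsAlgebraic k₁ k'] [IsDomain (k₁ ⊗[k] K)]
    [IrreducibleSpace (PrimeSpectrum (k' ⊗[k] K))]
    {e e' : k' ⊗[k] K} (he' : e' ≠ 0) (h : e * e' = 0) : IsNilpotent e := by
  haveI : Algebra.IsIntegral k₁ k' := Algebra.IsAlgebraic.isIntegral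
  let Θ : (k₁ ⊗[k] K) ⊗[k₁] k' ≃+* k' ⊗[k] K :=
    (Algebra.TensorProduct.comm k₁ (k₁ ⊗[k] K) k').toRingEquiv.trans
    (Algebra.TensorProduct.cancelBaseChange k k₁ k₁ k' K).toRingEquiv
  haveI : IrreducibleSpace (PrimeSpectrum ((k₁ ⊗[k] K) ⊗[k₁] k')) :=
    (PrimeSpectrum.homeomorphOfRingEquiv Θ).irreducibleSpace_iff.mpr inferInstance
  have he'' : Θ.symm e' ≠ 0 := fun h0 => he' (by
    have := congrArg Θ h0
    rwa [RingEquiv.apply_symm_apply, map_zero] at this)
  have h'' : Θ.symm e * Θ.symm e' = 0 := by rw [← map_mul, h, map_zero]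
  have hn := isNilpotent_of_mul_eq_zero_of_flat_integral (k₁ ⊗[k] K) he'' h''
  have := hn.map Θ
  rwa [RingEquiv.apply_symm_apply] at this

end Mid

section Main

variable {k K k' : Type u} [Field k] [Field K] [Field k'] [Algebra k K] [Algebra k k']

/-- **zero divisors of `k' ⊗ K` are nilpotent** when `k` is separably closed in `K`. -/
theorem isNilpotent_of_mul_eq_zero
    (hK : ∀ α : K, IsSeparable k α → α ∈ Set.range (algebraMap k K))
    {e e' : k' ⊗[k] K} (he' : e' ≠ 0) (h : e * e' = 0) : IsNilpotent e := by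
  classical
  obtain ⟨s, hs⟩ := exists_isTranscendenceBasis k k'
  haveI halg : Algebra.IsAlgebraic (IntermediateField.adjoin k (Set.range ((↑) : s → k'))) k' :=
    hs.isAlgebraic_field
  -- the purely transcendental part gives a domain
  haveI hdom0 : IsDomain (MvPolynomial s k ⊗[k] K) :=
    ((Algebra.TensorProduct.comm k (MvPolynomial s k) K).toRingEquiv.trans
      (MvPolynomial.algebraTensorAlgEquiv k K).toRingEquiv).toMulEquiv.isDomain
      (MvPolynomial s K)
  have hinj : Function.Injective (algebraMap (MvPolynomial s k) (MvPolynomial s k ⊗[k] K)) :=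
    Algebra.TensorProduct.includeLeft_injective (S := k) (FaithfulSMul.algebraMap_injective k K)
  haveI hdom1 : IsDomain (FractionRing (MvPolynomial s k) ⊗[k] K) :=
    isDomain_tensor_of_isFractionRing k (MvPolynomial s k) (FractionRing (MvPolynomial s k)) K hinj
  haveI hdom2 : IsDomain ((IntermediateField.adjoin k (Set.range ((↑) : s → k'))) ⊗[k] K) :=
    (Algebra.TensorProduct.congr hs.1.aevalEquivField.symm
      (AlgEquiv.refl (R := k) (A₁ := K))).toRingEquiv.toMulEquiv.isDomain _
  haveI hirr : IrreducibleSpace (PrimeSpectrum (k' ⊗[k] K)) :=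
    Groth.Agent.H48.geomIrr_iff_sepClosedIn.mpr hK k'
  exact isNilpotent_of_mul_eq_zero_of_isDomain
    (k₁ := IntermediateField.adjoin k (Set.range ((↑) : s → k'))) he' h

/-- the same with the factors swapped -/
theorem isNilpotent_of_mul_eq_zero'
    (hK : ∀ α : K, IsSeparable k α → α ∈ Set.range (algebraMap k K))
    {e e' : K ⊗[k] k'} (he' : e' ≠ 0) (h : e * e' = 0) : IsNilpotent e := by
  let c := (Algebra.TensorProduct.comm k K k').toRingEquiv
  have he'' : c e' ≠ 0 := fun h0 => he' (by
    have := congrArg c.symm h0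
    rwa [RingEquiv.symm_apply_apply, map_zero] at this)
  have h'' : c e * c e' = 0 := by rw [← map_mul, h, map_zero]
  have hn := isNilpotent_of_mul_eq_zero hK he'' h''
  have := hn.map c.symm
  rwa [RingEquiv.symm_apply_apply] at this

end Main

end Groth.Agent.H56.Primary
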