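import Mathlib
import Groth.Agent.H56.FamFlat.Core
import Groth.Agent.H56.Primary.ZD
import Groth.Agent.H56.Primary.Nzd

/-!
# Transfer of independence modulo the maximal ideal at a single point (helper56)

In the setting of `Groth.Agent.H56.FamFlat.minIndep_gmap`, assume moreover that `B' = B ⊗_A A'` and
that the residue field of `B_q` is a primary extension of the residue field of `A`.  Then, for a
*single* prime `Q` of `B'` above `q` and `𝔪'`, a family of `M_q` independent modulo `𝔪` has
image in `M'_Q` independent modulo `𝔪'`.
-/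

set_option autoImplicit false
set_option linter.style.haveILetI false

open TensorProduct IsLocalRing

namespace Groth.Agent.H56.Primary

open Groth.Agent.H56.FamFlat

universe u

section NZD

variable {A : Type u} [CommRing A] [IsLocalRing A] {C : Type u} [CommRing C] [IsLocalRing C]
  [Algebra A C] [IsLocalHom (algebraMap A C)]
  {k' : Type u} [Field k'] [Algebra A k'] [Algebra (ResidueField A) k']
  [IsScalarTower A (ResidueField A) k']

/-- in `K ⊗ k'`, elements which are not nilpotent are regular, when `K / k` is primary -/
theorem mem_nonZeroDivisors_of_not_isNilpotent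
    (hprim : ∀ α : ResidueField C, IsSeparable (ResidueField A) α →
      α ∈ Set.range (algebraMap (ResidueField A) (ResidueField C)))
    {x : ResidueField C ⊗[A] k'} (hx : ¬ IsNilpotent x) :
    x ∈ nonZeroDivisors (ResidueField C ⊗[A] k') := by
  haveI : TensorProduct.CompatibleSMul A (ResidueField A) (ResidueField C) k' :=
    ⟨fun r m n => by
      obtain ⟨a, rfl⟩ := residue_surjective r
      change (algebraMap A (ResidueField A) a • m) ⊗ₜ[A] n =
        m ⊗ₜ[A] (algebraMap A (ResidueField A) a • n)
      rw [algebraMap_smul, algebraMap_smul, TensorProduct.smul_tmul]⟩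
  let Θ : ResidueField C ⊗[A] k' ≃ₐ[A] ResidueField C ⊗[ResidueField A] k' :=
    Algebra.TensorProduct.equivOfCompatibleSMul (ResidueField A) A A (ResidueField C) k'
  rw [mem_nonZeroDivisors_iff_right]
  intro y hy
  by_contra hy0
  apply hx
  have h1 : Θ x * Θ y = 0 := by rw [← map_mul, mul_comm, hy, map_zero]
  have h2 : Θ y ≠ 0 := fun h0 => hy0 (by
    have := congrArg Θ.symm h0
    rwa [AlgEquiv.symm_apply_apply, map_zero] at this)
  have h3 := isNilpotent_of_mul_eq_zero' hprim h2 h1
  have := h3.map Θ.symm
  rwa [AlgEquiv.symm_apply_apply] at this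

end NZD

section ActExtra

variable {A : Type*} [CommRing A] {C : Type*} [CommRing C] [Algebra A C]
  {k' : Type*} [CommRing k'] [Algebra A k']
  {N : Type*} [AddCommGroup N] [Module A N] [Module C N] [IsScalarTower A C N]

theorem act_tmul (c : C) (a : k') (w : N ⊗[A] k') :
    act N (c ⊗ₜ[A] a) w = c • act N ((1 : C) ⊗ₜ[A] a) w := by
  induction w with
  | zero => simp
  | add w₁ w₂ h₁ h₂ => rw [map_add, map_add, smul_add, h₁, h₂]
  | tmul n b => rw [act_tmul_tmul, act_tmul_tmul, one_smul, TensorProduct.smul_tmul']

end ActExtra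

variable {A B A' B' : Type u} [CommRing A] [CommRing B] [CommRing A'] [CommRing B']
  [IsLocalRing A] [IsLocalRing A'] [Algebra A B] [Algebra A A'] [IsLocalHom (algebraMap A A')]
  [Algebra B B'] [Algebra A' B'] [Algebra A B'] [IsScalarTower A B B'] [IsScalarTower A A' B']
  {M M' : Type u} [AddCommGroup M] [Module B M] [Module A M] [IsScalarTower A B M]
  [AddCommGroup M'] [Module B' M'] [Module A' M'] [IsScalarTower A' B' M'] [Module B M']
  [IsScalarTower B B' M'] [Module A M'] [IsScalarTower A A' M'] [IsScalarTower A B M']

section Loc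

/-- a prime over the maximal ideal gives a local homomorphism to the localization -/
theorem isLocalHom_algebraMap_localization (q : Ideal B) [q.IsPrime]
    (hq : q.comap (algebraMap A B) = maximalIdeal A) :
    IsLocalHom (algebraMap A (Localization.AtPrime q)) := by
  constructor
  intro a ha
  rw [IsScalarTower.algebraMap_apply A B (Localization.AtPrime q),
    IsLocalization.AtPrime.isUnit_to_map_iff (Localization.AtPrime q) q] at ha
  by_contra hna
  have hmem : a ∈ maximalIdeal A := (mem_maximalIdeal a).mpr hna
  rw [← hq, Ideal.mem_comap] at hmem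
  exact ha hmem

theorem isUnit_algebraMap_end_prime (q : Ideal B) [q.IsPrime] (Q : Ideal B') [Q.IsPrime]
    (hQ1 : Q.comap (algebraMap B B') = q) (x : q.primeCompl) :
    IsUnit (algebraMap B (Module.End B (LocalizedModule Q.primeCompl M')) (x : B)) := by
  have hx : algebraMap B B' (x : B) ∈ Q.primeCompl := by
    intro hmem
    have h1 : (x : B) ∈ Q.comap (algebraMap B B') := hmem
    rw [hQ1] at h1
    exact x.2 h1
  have hu := IsLocalizedModule.map_units (LocalizedModule.mkLinearMap Q.primeCompl M')
    ⟨_, hx⟩
  rw [Module.End.isUnit_iff] at hu ⊢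
  have : ⇑(algebraMap B (Module.End B (LocalizedModule Q.primeCompl M')) (x : B)) =
      ⇑(algebraMap B' (Module.End B' (LocalizedModule Q.primeCompl M'))
        (algebraMap B B' (x : B))) := by
    funext y
    simp only [Module.algebraMap_end_apply]
    exact (algebraMap_smul B' (x : B) y).symm
  rw [this]
  exact hu

/-- the comparison map `M_q → M'_Q` -/
noncomputable def gmapQ (f : M →ₗ[B] M') (q : Ideal B) [q.IsPrime] (Q : Ideal B') [Q.IsPrime]
    (hQ1 : Q.comap (algebraMap B B') = q) :
    LocalizedModule q.primeCompl M →ₗ[B] LocalizedModule Q.primeCompl M' :=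
  IsLocalizedModule.lift q.primeCompl (LocalizedModule.mkLinearMap q.primeCompl M)
    (((LocalizedModule.mkLinearMap Q.primeCompl M').restrictScalars B) ∘ₗ f)
    (isUnit_algebraMap_end_prime q Q hQ1)

theorem gmapQ_mk (f : M →ₗ[B] M') (q : Ideal B) [q.IsPrime] (Q : Ideal B') [Q.IsPrime]
    (hQ1 : Q.comap (algebraMap B B') = q) (m : M) :
    gmapQ f q Q hQ1 (LocalizedModule.mk m (1 : q.primeCompl)) =
      LocalizedModule.mk (f m) (1 : Q.primeCompl) :=
  IsLocalizedModule.lift_apply q.primeCompl (LocalizedModule.mkLinearMap q.primeCompl M)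
    (((LocalizedModule.mkLinearMap Q.primeCompl M').restrictScalars B) ∘ₗ f)
    (isUnit_algebraMap_end_prime q Q hQ1) m

end Loc

section Phi

variable [Algebra.IsPushout A B A' B'] (q : Ideal B) [q.IsPrime]

variable (A' B') in
/-- the ring homomorphism `B' → B_q ⊗ k'` -/
noncomputable def phi : B' →ₐ[A] (Localization.AtPrime q) ⊗[A] (ResidueField A') :=
  Algebra.pushoutDesc B'
    ((Algebra.TensorProduct.includeLeft : Localization.AtPrime q →ₐ[A] _).comp
      (IsScalarTower.toAlgHom A B (Localization.AtPrime q)))
    ((Algebra.TensorProduct.includeRight : ResidueField A' →ₐ[A] _).comp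
      (IsScalarTower.toAlgHom A A' (ResidueField A')))
    (fun _ _ => mul_comm _ _)

theorem phi_left (b : B) :
    phi A' B' q (algebraMap B B' b) = (algebraMap B (Localization.AtPrime q) b) ⊗ₜ[A] 1 := by
  unfold phi
  rw [Algebra.pushoutDesc_left]
  rfl

theorem phi_right (a' : A') :
    phi A' B' q (algebraMap A' B' a') = (1 : Localization.AtPrime q) ⊗ₜ[A] residue A' a' := by
  unfold phi
  rw [Algebra.pushoutDesc_right]
  rfl

end Phi

section Semilinear

variable [Algebra.IsPushout A B A' B']
  (f : M →ₗ[B] M') (hA : IsBaseChange A' (f.restrictScalars A)) (q : Ideal B) [q.IsPrime]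

/-- the residue map of `A'` as an `A`-linear map -/
noncomputable def resLin : A' →ₗ[A] ResidueField A' :=
  (IsScalarTower.toAlgHom A A' (ResidueField A')).toLinearMap

theorem resLin_apply (a' : A') : resLin (A := A) a' = residue A' a' := rfl

variable [SMulCommClass B A' M']

theorem theta_res_smul (a' : A') (y : M') :
    theta f hA q (resLin (A := A)) (a' • y) =
      act (LocalizedModule q.primeCompl M) ((1 : Localization.AtPrime q) ⊗ₜ[A] residue A' a')
        (theta f hA q (resLin (A := A)) y) := by
  refine induction_baseChange f hA (motive := fun y =>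
    theta f hA q (resLin (A := A)) (a' • y) =
      act (LocalizedModule q.primeCompl M) ((1 : Localization.AtPrime q) ⊗ₜ[A] residue A' a')
        (theta f hA q (resLin (A := A)) y)) y ?_ ?_ ?_
  · rw [smul_zero, map_zero, map_zero]
  · intro a'' m
    rw [← mul_smul, theta_smul, theta_smul, act_tmul_tmul, one_smul, resLin_apply, resLin_apply,
      map_mul]
  · intro y₁ y₂ h₁ h₂
    rw [smul_add, map_add, map_add, map_add, h₁, h₂]

/-- **semilinearity** of the coordinate map with respect to `phi` -/
theorem theta_res_smul' (b' : B') (y : M') :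
    theta f hA q (resLin (A := A)) (b' • y) =
      act (LocalizedModule q.primeCompl M) (phi A' B' q b')
        (theta f hA q (resLin (A := A)) y) := by
  obtain ⟨z, rfl⟩ := (Algebra.IsPushout.equiv A B A' B').surjective b'
  induction z with
  | zero => simp
  | add z₁ z₂ h₁ h₂ => rw [map_add, add_smul, map_add, map_add, map_add, LinearMap.add_apply, h₁, h₂]
  | tmul b a' =>
    rw [Algebra.IsPushout.equiv_tmul, map_mul, phi_left, phi_right,
      Algebra.TensorProduct.tmul_mul_tmul, mul_one, one_mul, act_tmul, mul_smul,
      algebraMap_smul, algebraMap_smul, theta_smul_left, theta_res_smul, algebraMap_smul]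

end Semilinear

section Eps

variable [Algebra.IsPushout A B A' B'] (q : Ideal B) [q.IsPrime] (Q : Ideal B') [Q.IsPrime]
  (hQ1 : Q.comap (algebraMap B B') = q) (hQ2 : Q.comap (algebraMap A' B') = maximalIdeal A')

include hQ1 hQ2 in
/-- elements outside `Q` are not nilpotent in the closed fibre `K ⊗ k'` -/
theorem not_isNilpotent_redMap_phi {t' : B'} (ht' : t' ∈ Q.primeCompl) :
    ¬ IsNilpotent (redMap A (Localization.AtPrime q) (ResidueField A') (phi A' B' q t')) := by
  -- the two local homomorphisms into `B'_Q`
  let ρ₁ : Localization.AtPrime q →ₐ[A] Localization.AtPrime Q :=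
    { Localization.localRingHom q Q (algebraMap B B') hQ1.symm with
      commutes' := fun a => by
        change Localization.localRingHom q Q (algebraMap B B') hQ1.symm
          (algebraMap A (Localization.AtPrime q) a) = algebraMap A (Localization.AtPrime Q) a
        rw [IsScalarTower.algebraMap_apply A B (Localization.AtPrime q),
          Localization.localRingHom_to_map, ← IsScalarTower.algebraMap_apply A B B',
          IsScalarTower.algebraMap_apply A B' (Localization.AtPrime Q)] }
  have hρ₁ : ∀ x, ρ₁ x = Localization.localRingHom q Q (algebraMap B B') hQ1.symm x := fun _ => rfl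
  haveI : IsLocalHom ρ₁ := ⟨fun a ha =>
    (Localization.isLocalHom_localRingHom q Q (algebraMap B B') hQ1.symm).map_nonunit a ha⟩
  let ρ₂ : A' →ₐ[A] Localization.AtPrime Q := IsScalarTower.toAlgHom A A' (Localization.AtPrime Q)
  haveI : IsLocalHom ρ₂ := ⟨fun a ha => by
    change IsUnit (algebraMap A' (Localization.AtPrime Q) a) at ha
    rw [IsScalarTower.algebraMap_apply A' B' (Localization.AtPrime Q),
      IsLocalization.AtPrime.isUnit_to_map_iff (Localization.AtPrime Q) Q] at ha
    by_contra hna
    have hmem : a ∈ maximalIdeal A' := (mem_maximalIdeal a).mpr hna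
    rw [← hQ2, Ideal.mem_comap] at hmem
    exact ha hmem⟩
  let ε₁ := ResidueField.mapAlgHom ρ₁
  let ε₂ := ResidueField.mapAlgHom ρ₂
  let ε : ResidueField (Localization.AtPrime q) ⊗[A] ResidueField A' →ₐ[A]
      ResidueField (Localization.AtPrime Q) := Algebra.TensorProduct.productMap ε₁ ε₂
  let Φ : B' →ₐ[A] ResidueField (Localization.AtPrime Q) :=
    ε.comp ((redMap A (Localization.AtPrime q) (ResidueField A')).comp (phi A' B' q))
  let Ψ : B' →ₐ[A] ResidueField (Localization.AtPrime Q) :=
    IsScalarTower.toAlgHom A B' (ResidueField (Localization.AtPrime Q))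
  have hΦΨ : Φ = Ψ := by
    apply Algebra.IsPushout.algHom_ext (R := A) (S := B) (R' := A') (S' := B')
    · ext a'
      change ε (redMap A (Localization.AtPrime q) (ResidueField A')
        (phi A' B' q (algebraMap A' B' a'))) =
        algebraMap B' (ResidueField (Localization.AtPrime Q)) (algebraMap A' B' a')
      rw [phi_right, redMap_tmul, Algebra.TensorProduct.productMap_apply_tmul, map_one, map_one,
        one_mul]
      change ResidueField.mapAlgHom ρ₂ (residue A' a') = _
      rw [ResidueField.mapAlgHom_residue]
      change residue _ (algebraMap A' (Localization.AtPrime Q) a') = _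
      rw [IsScalarTower.algebraMap_apply A' B' (Localization.AtPrime Q)]
      rfl
    · ext b
      change ε (redMap A (Localization.AtPrime q) (ResidueField A')
        (phi A' B' q (algebraMap B B' b))) =
        algebraMap B' (ResidueField (Localization.AtPrime Q)) (algebraMap B B' b)
      rw [phi_left, redMap_tmul, Algebra.TensorProduct.productMap_apply_tmul, map_one, mul_one]
      change ResidueField.mapAlgHom ρ₁ (residue _ (algebraMap B (Localization.AtPrime q) b)) = _
      rw [ResidueField.mapAlgHom_residue, hρ₁, Localization.localRingHom_to_map]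
      rfl
  have hΨ : Ψ t' ≠ 0 := by
    change residue _ (algebraMap B' (Localization.AtPrime Q) t') ≠ 0
    rw [residue_ne_zero_iff_isUnit]
    exact IsLocalization.map_units (Localization.AtPrime Q) ⟨t', ht'⟩
  intro hnil
  apply hΨ
  rw [← hΦΨ]
  exact (hnil.map ε).eq_zero

end Eps

section Heart

variable [Algebra.IsPushout A B A' B']
  (f : M →ₗ[B] M') (hA : IsBaseChange A' (f.restrictScalars A)) (q : Ideal B) [q.IsPrime]
  (Q : Ideal B') [Q.IsPrime]
  (hQ1 : Q.comap (algebraMap B B') = q) (hQ2 : Q.comap (algebraMap A' B') = maximalIdeal A')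

include hA hQ2 in
set_option maxHeartbeats 1600000 in
/-- **transfer of independence modulo the maximal ideal** from `M_q` to `M'_Q`, for a single
prime `Q` above `q` and `𝔪'`, when the residue field extension at `q` is primary. -/
theorem minIndep_gmapQ [IsLocalHom (algebraMap A (Localization.AtPrime q))]
    (hprim : ∀ α : ResidueField (Localization.AtPrime q), IsSeparable (ResidueField A) α →
      α ∈ Set.range (algebraMap (ResidueField A) (ResidueField (Localization.AtPrime q))))
    {Λ : Type*} (v : Λ → LocalizedModule q.primeCompl M) (hv : MinIndep A v) :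
    MinIndep A' (fun i => gmapQ f q Q hQ1 (v i)) := by
  classical
  haveI : SMulCommClass B A' M' := ⟨fun b a' y => by
    rw [← algebraMap_smul B' b (a' • y), ← algebraMap_smul B' a' y, ← algebraMap_smul B' b y,
      ← algebraMap_smul B' a' (algebraMap B B' b • y), smul_smul, smul_smul, mul_comm]⟩
  intro s c hc
  -- common denominators
  obtain ⟨t, ht⟩ := IsLocalizedModule.exist_integer_multiples q.primeCompl
    (LocalizedModule.mkLinearMap q.primeCompl M) s v
  have ht' : ∀ i ∈ s, ∃ y : M, LocalizedModule.mk y (1 : q.primeCompl) = (t : B) • v i :=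
    fun i hi => ht i hi
  choose! m hm using ht'
  set w : M' := ∑ i ∈ s, c i • f (m i) with hw_def
  -- `w / 1 ∈ 𝔪' M'_Q`
  have hw : LocalizedModule.mk w (1 : Q.primeCompl) ∈
      maximalIdeal A' • (⊤ : Submodule A' (LocalizedModule Q.primeCompl M')) := by
    have h1 : LocalizedModule.mk w (1 : Q.primeCompl) =
        algebraMap B B' (t : B) • ∑ i ∈ s, c i • gmapQ f q Q hQ1 (v i) := by
      have h2 : LocalizedModule.mk w (1 : Q.primeCompl) =
          ((LocalizedModule.mkLinearMap Q.primeCompl M').restrictScalars A') w := rfl
      rw [h2, hw_def, map_sum, Finset.smul_sum]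
      refine Finset.sum_congr rfl fun i hi => ?_
      rw [map_smul, smul_comm]
      congr 1
      rw [algebraMap_smul, ← map_smul, ← hm i hi, gmapQ_mk]
      rfl
    rw [h1]
    exact smul_mem_smul_top _ _ hc
  obtain ⟨t', ht', htw⟩ := exists_smul_mem_of_mk_mem Q.primeCompl (maximalIdeal A') hw
  -- the coordinate map
  have hβ0 : ∀ a ∈ maximalIdeal A', resLin (A := A) a = 0 := fun a ha =>
    (residue_eq_zero_iff a).mpr ha
  have h1 : theta f hA q (resLin (A := A)) (t' • w) = 0 :=
    theta_eq_zero_of_mem f hA q _ (maximalIdeal A') hβ0 htw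
  rw [theta_res_smul'] at h1
  have hnzd := mem_nonZeroDivisors_of_not_isNilpotent hprim
    (not_isNilpotent_redMap_phi q Q hQ1 hQ2 ht')
  have h2 : theta f hA q (resLin (A := A)) w = 0 :=
    (injective_iff_map_eq_zero _).mp (act_injective (phi A' B' q t') hnzd) _ h1
  have hψw : theta f hA q (resLin (A := A)) w =
      ∑ i ∈ s, (LocalizedModule.mk (m i) (1 : q.primeCompl)) ⊗ₜ[A] residue A' (c i) := by
    rw [hw_def, map_sum]
    exact Finset.sum_congr rfl fun i _ => theta_smul f hA q _ (c i) (m i)
  have htu : IsUnit (algebraMap B (Localization q.primeCompl) (t : B)) :=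
    IsLocalization.map_units (Localization q.primeCompl) t
  -- the functionals
  have key : ∀ β : Module.Dual (ResidueField A) (ResidueField A'), ∀ i ∈ s,
      β (residue A' (c i)) = 0 := by
    intro β
    let βA : ResidueField A' →ₗ[A] ResidueField A := β.restrictScalars A
    have hz0 : ∑ i ∈ s, (LocalizedModule.mk (m i) (1 : q.primeCompl)) ⊗ₜ[A]
        βA (residue A' (c i)) = 0 := by
      have := congrArg (LinearMap.lTensor (LocalizedModule q.primeCompl M) βA) h2
      rw [hψw, map_sum, map_zero] at this
      rw [← this]
      exact Finset.sum_congr rfl fun i _ => (LinearMap.lTensor_tmul _ _ _ _).symm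
    have hS : ∑ i ∈ s, (v i) ⊗ₜ[A] βA (residue A' (c i)) = 0 := by
      have h3 : algebraMap B (Localization q.primeCompl) (t : B) •
          ∑ i ∈ s, (v i) ⊗ₜ[A] βA (residue A' (c i)) = 0 := by
        rw [← hz0, Finset.smul_sum]
        refine Finset.sum_congr rfl fun i hi => ?_
        rw [hm i hi, algebraMap_smul, TensorProduct.smul_tmul']
      exact (htu.smul_eq_zero).mp h3
    choose d hd using fun i => residue_surjective (βA (residue A' (c i)))
    have hS' : TensorProduct.mk A (ResidueField A) (LocalizedModule q.primeCompl M) 1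
        (∑ i ∈ s, d i • v i) = 0 := by
      have h4 : TensorProduct.mk A (ResidueField A) (LocalizedModule q.primeCompl M) 1
          (∑ i ∈ s, d i • v i) =
          TensorProduct.comm A _ _ (∑ i ∈ s, (v i) ⊗ₜ[A] βA (residue A' (c i))) := by
        rw [map_sum, map_sum]
        refine Finset.sum_congr rfl fun i _ => ?_
        rw [TensorProduct.comm_tmul, ← hd i, map_smul]
        change d i • ((1 : ResidueField A) ⊗ₜ[A] v i) = residue A (d i) ⊗ₜ[A] v i
        rw [TensorProduct.smul_tmul', Algebra.smul_def, mul_one]
        rfl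
      rw [h4, hS, map_zero]
    have hmem : ∑ i ∈ s, d i • v i ∈
        maximalIdeal A • (⊤ : Submodule A (LocalizedModule q.primeCompl M)) := by
      rw [← LinearMap.ker_tensorProductMk]
      exact hS'
    intro i hi
    have h5 : β (residue A' (c i)) = residue A (d i) := (hd i).symm
    rw [h5]
    exact (residue_eq_zero_iff _).mpr (hv s d hmem i hi)
  intro i hi
  rw [← residue_eq_zero_iff]
  exact (Module.forall_dual_apply_eq_zero_iff (ResidueField A) (residue A' (c i))).mp
    (fun β => key β i hi)

end Heart

end Groth.Agent.H56.Primary
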