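import Mathlib
import Groth.Agent.H56.FamFlat.Quot
import Groth.Agent.H56.Primary.Core

/-!
# Relations die at a single point (primary residue field extension) (helper56)

* `algebraMap_mem_of_relationQ`: in the setting of `minIndep_gmapQ`, if `M'_Q` is flat over `A'`
  then a relation (modulo the pull back of an ideal `I'` of `A'`) between a family of `M_q`
  independent modulo `𝔪` has coefficients in `I'`.
-/

set_option autoImplicit false
set_option linter.style.haveILetI false

open TensorProduct IsLocalRing

namespace Groth.Agent.H56.Primary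

open Groth.Agent.H56.FamFlat

universe u

variable {A B A' B' : Type u} [CommRing A] [CommRing B] [CommRing A'] [CommRing B']
  [IsLocalRing A] [IsLocalRing A'] [Algebra A B] [Algebra A A'] [IsLocalHom (algebraMap A A')]
  [Algebra B B'] [Algebra A' B'] [Algebra A B'] [IsScalarTower A B B'] [IsScalarTower A A' B']
  {M M' : Type u} [AddCommGroup M] [Module B M] [Module A M] [IsScalarTower A B M]
  [AddCommGroup M'] [Module B' M'] [Module A' M'] [IsScalarTower A' B' M'] [Module B M']
  [IsScalarTower B B' M'] [Module A M'] [IsScalarTower A A' M'] [IsScalarTower A B M']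
  [Algebra.IsPushout A B A' B']
  (f : M →ₗ[B] M') (hA : IsBaseChange A' (f.restrictScalars A)) (q : Ideal B) [q.IsPrime]
  (Q : Ideal B') [Q.IsPrime]
  (hQ1 : Q.comap (algebraMap B B') = q) (hQ2 : Q.comap (algebraMap A' B') = maximalIdeal A')

include hA hQ1 hQ2 in
/-- **the key lemma at a single point, modulo an ideal of `A'`**. -/
theorem algebraMap_mem_of_relationQ
    (hflat : Module.Flat A' (LocalizedModule Q.primeCompl M'))
    [IsLocalHom (algebraMap A (Localization.AtPrime q))]
    (hprim : ∀ α : ResidueField (Localization.AtPrime q), IsSeparable (ResidueField A) α →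
      α ∈ Set.range (algebraMap (ResidueField A) (ResidueField (Localization.AtPrime q))))
    (I' : Ideal A') (hI' : I' ≠ ⊤)
    {Λ : Type u} (v : Λ → LocalizedModule q.primeCompl M) (hv : MinIndep A v)
    (s : Finset Λ) (x : Λ → A)
    (hx : ∑ i ∈ s, x i • v i ∈
      (I'.comap (algebraMap A A')) • (⊤ : Submodule A (LocalizedModule q.primeCompl M))) :
    ∀ i ∈ s, algebraMap A A' (x i) ∈ I' := by
  have hmin := minIndep_gmapQ f hA q Q hQ1 hQ2 hprim v hv
  haveI : Nontrivial (A' ⧸ I') := Ideal.Quotient.nontrivial_iff.mpr hI'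
  haveI : IsLocalRing (A' ⧸ I') :=
    IsLocalRing.of_surjective' (Ideal.Quotient.mk I') Ideal.Quotient.mk_surjective
  have hmin' := minIndep_quotient I' hmin
  have hli : LinearIndependent (A' ⧸ I')
      (fun i => (1 : A' ⧸ I') ⊗ₜ[A'] gmapQ f q Q hQ1 (v i)) :=
    Module.IsLocalRing.linearIndependent_of_flat _ (linearIndependent_mk_of_minIndep hmin')
  -- compatibility of the `A`-action
  have hsm : ∀ (a : A) (n : LocalizedModule q.primeCompl M),
      gmapQ f q Q hQ1 (a • n) = algebraMap A A' a • gmapQ f q Q hQ1 n := by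
    intro a n
    rw [← algebraMap_smul B a n, map_smul]
    generalize gmapQ f q Q hQ1 n = l
    induction l using LocalizedModule.induction_on with
    | h y t =>
      rw [LocalizedModule.smul'_mk, LocalizedModule.smul'_mk, algebraMap_smul, algebraMap_smul]
  -- the image of the relation lies in `I' L`
  have hmem : gmapQ f q Q hQ1 (∑ i ∈ s, x i • v i) ∈
      I' • (⊤ : Submodule A' (LocalizedModule Q.primeCompl M')) := by
    refine Submodule.smul_induction_on hx ?_ ?_
    · intro a ha n _
      rw [hsm]
      exact Submodule.smul_mem_smul ha Submodule.mem_top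
    · intro y z hy hz
      rw [map_add]
      exact Submodule.add_mem _ hy hz
  have hsum : ∑ i ∈ s, (Ideal.Quotient.mk I' (algebraMap A A' (x i))) •
      ((1 : A' ⧸ I') ⊗ₜ[A'] gmapQ f q Q hQ1 (v i)) = 0 := by
    have h1 : ∑ i ∈ s, (Ideal.Quotient.mk I' (algebraMap A A' (x i))) •
        ((1 : A' ⧸ I') ⊗ₜ[A'] gmapQ f q Q hQ1 (v i)) =
        TensorProduct.mk A' (A' ⧸ I') (LocalizedModule Q.primeCompl M') 1
          (gmapQ f q Q hQ1 (∑ i ∈ s, x i • v i)) := by
      rw [map_sum, map_sum]
      refine Finset.sum_congr rfl fun i _ => ?_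
      rw [hsm, map_smul, ← Ideal.Quotient.algebraMap_eq, algebraMap_smul]
      rfl
    rw [h1]
    have h2 : gmapQ f q Q hQ1 (∑ i ∈ s, x i • v i) ∈
        LinearMap.ker (TensorProduct.mk A' (A' ⧸ I') (LocalizedModule Q.primeCompl M') 1) := by
      rw [LinearMap.ker_tensorProductMk]
      exact hmem
    exact h2
  intro i hi
  have := linearIndependent_iff'.mp hli s
    (fun i => Ideal.Quotient.mk I' (algebraMap A A' (x i))) hsum i hi
  exact Ideal.Quotient.eq_zero_iff_mem.mp this

include hA hQ1 hQ2 in
/-- **the key lemma at a single point**: relations die in `A'`. -/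
theorem algebraMap_eq_zero_of_relationQ
    (hflat : Module.Flat A' (LocalizedModule Q.primeCompl M'))
    [IsLocalHom (algebraMap A (Localization.AtPrime q))]
    (hprim : ∀ α : ResidueField (Localization.AtPrime q), IsSeparable (ResidueField A) α →
      α ∈ Set.range (algebraMap (ResidueField A) (ResidueField (Localization.AtPrime q))))
    {Λ : Type u} (v : Λ → LocalizedModule q.primeCompl M) (hv : MinIndep A v)
    (s : Finset Λ) (x : Λ → A) (hx : ∑ i ∈ s, x i • v i = 0) :
    ∀ i ∈ s, algebraMap A A' (x i) = 0 := by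
  intro i hi
  have h := algebraMap_mem_of_relationQ f hA q Q hQ1 hQ2 hflat hprim ⊥ bot_ne_top v hv s x
    (by rw [hx]; exact Submodule.zero_mem _) i hi
  exact (Submodule.mem_bot _).mp h

end Groth.Agent.H56.Primary
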