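import Mathlib
import Groth.Agent.H56.Flattening.Plumbing
import Groth.Agent.H56.FamFlat.Main
import Groth.Agent.H56.FamFlat.Quot
import Groth.Agent.H56.FamFlat.Points
import Groth.Agent.H56.Primary.Main
import Groth.Agent.H70.FlatLocusGeo.Main
import Groth.Agent.H70.FlatAtBC.Basic

/-!
# From flatness of a base change at a single point to relations in `A'` (primary residue field
extension), general pullback square, modulo an ideal (helper56)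
-/

set_option autoImplicit false
set_option linter.style.haveILetI false

open CategoryTheory Limits AlgebraicGeometry TopologicalSpace Opposite TensorProduct IsLocalRing

namespace Groth.Agent.H56.Primary

universe u

open Groth.Agent.H56.Flattening Groth.Agent.H56.FamFlat

variable {A A' : Type u} [CommRing A] [CommRing A'] [IsLocalRing A] [IsLocalRing A']
  [Algebra A A'] [IsLocalHom (algebraMap A A')]
  {X X' : Scheme.{u}} (f : X ⟶ Spec (CommRingCat.of A)) (g' : X' ⟶ X)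
  (f' : X' ⟶ Spec (CommRingCat.of A'))

set_option maxHeartbeats 3200000 in
/-- **relations modulo `I'` have coefficients in `I'`**, geometric form, for an arbitrary
pullback square over `Spec A' ⟶ Spec A`, assuming flatness at a single point above `x` and the
closed point, when the residue field extension at `x` is primary. -/
theorem relation_mem_of_exists_isFlatOverAt_pullback
    (hsq : IsPullback g' f' f (Spec.map (CommRingCat.ofHom (algebraMap A A'))))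
    (F : X.Modules) [F.IsQuasicoherent] {U : X.Opens}
    (hU : IsAffineOpen U) {x : X} (hxU : x ∈ U)
    [Algebra A Γ(X, U)] (hAB : algebraMap A Γ(X, U) = baseHom f U)
    [Module A Γ(F, U)] [IsScalarTower A Γ(X, U) Γ(F, U)]
    [IsLocalHom (algebraMap A (Localization.AtPrime (hU.primeIdealOf ⟨x, hxU⟩).asIdeal))]
    (hprim : ∀ α : ResidueField (Localization.AtPrime (hU.primeIdealOf ⟨x, hxU⟩).asIdeal),
      IsSeparable (ResidueField A) α → α ∈ Set.range (algebraMap (ResidueField A)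
        (ResidueField (Localization.AtPrime (hU.primeIdealOf ⟨x, hxU⟩).asIdeal))))
    (hflat : ∃ x' : X', g' x' = x ∧ f' x' = IsLocalRing.closedPoint A' ∧
      FlatMod.IsFlatOverAt f' ((Scheme.Modules.pullback g').obj F) x')
    (I' : Ideal A') (hI' : I' ≠ ⊤)
    {Λ : Type u}
    (v : Λ → LocalizedModule (hU.primeIdealOf ⟨x, hxU⟩).asIdeal.primeCompl Γ(F, U))
    (hv : MinIndep A v) (s : Finset Λ) (c : Λ → A)
    (hc : ∑ j ∈ s, c j • v j ∈ (I'.comap (algebraMap A A')) •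
      (⊤ : Submodule A (LocalizedModule (hU.primeIdealOf ⟨x, hxU⟩).asIdeal.primeCompl Γ(F, U)))) :
    ∀ j ∈ s, algebraMap A A' (c j) ∈ I' := by
  let g : Spec (CommRingCat.of A') ⟶ Spec (CommRingCat.of A) :=
    Spec.map (CommRingCat.ofHom (algebraMap A A'))
  have hc' : IsPullback g' f' f g := hsq
  obtain ⟨hU', hpo⟩ := affine_chart_of hc' (isAffineOpen_top (Spec (CommRingCat.of A)))
    (isAffineOpen_top (Spec (CommRingCat.of A'))) hU (W' := ⊤) le_top le_top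
  have e' : g' ⁻¹ᵁ U ⊓ f' ⁻¹ᵁ ⊤ ≤ g' ⁻¹ᵁ U := inf_le_left
  have e'' : g' ⁻¹ᵁ U ⊓ f' ⁻¹ᵁ ⊤ ≤ f' ⁻¹ᵁ ⊤ := inf_le_right
  -- rings
  letI algA'R' : Algebra A' Γ(Spec (CommRingCat.of A'), ⊤) :=
    (Scheme.ΓSpecIso (CommRingCat.of A')).inv.hom.toAlgebra
  letI algA'B' : Algebra A' Γ(X', g' ⁻¹ᵁ U ⊓ f' ⁻¹ᵁ ⊤) :=
    ((Scheme.ΓSpecIso (CommRingCat.of A')).inv ≫ f'.appLE ⊤ (g' ⁻¹ᵁ U ⊓ f' ⁻¹ᵁ ⊤) e'').hom.toAlgebra
  letI algBB' : Algebra Γ(X, U) Γ(X', g' ⁻¹ᵁ U ⊓ f' ⁻¹ᵁ ⊤) :=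
    (g'.appLE U _ e').hom.toAlgebra
  letI algAB' : Algebra A Γ(X', g' ⁻¹ᵁ U ⊓ f' ⁻¹ᵁ ⊤) :=
    ((algebraMap Γ(X, U) Γ(X', g' ⁻¹ᵁ U ⊓ f' ⁻¹ᵁ ⊤)).comp
      (algebraMap A Γ(X, U))).toAlgebra
  haveI : IsScalarTower A Γ(X, U) Γ(X', g' ⁻¹ᵁ U ⊓ f' ⁻¹ᵁ ⊤) :=
    IsScalarTower.of_algebraMap_eq (fun _ => rfl)
  -- the pushout square over `A`
  have hpo2 : CategoryTheory.IsPushout (CommRingCat.ofHom (algebraMap A Γ(X, U)))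
      (CommRingCat.ofHom (algebraMap A A'))
      (CommRingCat.ofHom (algebraMap Γ(X, U) Γ(X', g' ⁻¹ᵁ U ⊓ f' ⁻¹ᵁ ⊤)))
      (CommRingCat.ofHom (algebraMap A' Γ(X', g' ⁻¹ᵁ U ⊓ f' ⁻¹ᵁ ⊤))) := by
    refine hpo.of_iso (Scheme.ΓSpecIso (CommRingCat.of A)) (Iso.refl _)
      (Scheme.ΓSpecIso (CommRingCat.of A')) (Iso.refl _) ?_ ?_ ?_ ?_
    · rw [hAB]
      change _ = (Scheme.ΓSpecIso (CommRingCat.of A)).hom ≫
        ((Scheme.ΓSpecIso (CommRingCat.of A)).inv ≫ f.appLE ⊤ U le_top)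
      rw [Iso.hom_inv_id_assoc, Iso.refl_hom, Category.comp_id]
    · rw [Groth.Agent.H71.QCoh.appLE_top_top_eq_appTop]
      exact Scheme.ΓSpecIso_naturality (CommRingCat.ofHom (algebraMap A A'))
    · rw [Iso.refl_hom, Iso.refl_hom, Category.comp_id, Category.id_comp]
      rfl
    · change _ = (Scheme.ΓSpecIso (CommRingCat.of A')).hom ≫
        ((Scheme.ΓSpecIso (CommRingCat.of A')).inv ≫ f'.appLE ⊤ (g' ⁻¹ᵁ U ⊓ f' ⁻¹ᵁ ⊤) e'')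
      rw [Iso.hom_inv_id_assoc, Iso.refl_hom, Category.comp_id]
  haveI : IsScalarTower A A' Γ(X', g' ⁻¹ᵁ U ⊓ f' ⁻¹ᵁ ⊤) :=
    IsScalarTower.of_algebraMap_eq (fun a => by
      have := congrArg (fun k => k.hom a) hpo2.w
      exact this)
  haveI hpo' : Algebra.IsPushout A Γ(X, U) A' Γ(X', g' ⁻¹ᵁ U ⊓ f' ⁻¹ᵁ ⊤) :=
    CommRingCat.isPushout_iff_isPushout.mp hpo2
  -- modules
  letI modR'M' : Module Γ(Spec (CommRingCat.of A'), ⊤)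
      Γ((Scheme.Modules.pullback g').obj F, g' ⁻¹ᵁ U ⊓ f' ⁻¹ᵁ ⊤) :=
    Module.compHom _ (f'.appLE ⊤ (g' ⁻¹ᵁ U ⊓ f' ⁻¹ᵁ ⊤) e'').hom
  letI algR'B' : Algebra Γ(Spec (CommRingCat.of A'), ⊤) Γ(X', g' ⁻¹ᵁ U ⊓ f' ⁻¹ᵁ ⊤) :=
    (f'.appLE ⊤ (g' ⁻¹ᵁ U ⊓ f' ⁻¹ᵁ ⊤) e'').hom.toAlgebra
  haveI : IsScalarTower A' Γ(Spec (CommRingCat.of A'), ⊤)
      Γ(X', g' ⁻¹ᵁ U ⊓ f' ⁻¹ᵁ ⊤) := IsScalarTower.of_algebraMap_eq (fun _ => rfl)
  haveI : IsScalarTower Γ(Spec (CommRingCat.of A'), ⊤) Γ(X', g' ⁻¹ᵁ U ⊓ f' ⁻¹ᵁ ⊤)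
      Γ((Scheme.Modules.pullback g').obj F, g' ⁻¹ᵁ U ⊓ f' ⁻¹ᵁ ⊤) :=
    IsScalarTower.of_algebraMap_smul (fun r m => rfl)
  letI modA'M' : Module A' Γ((Scheme.Modules.pullback g').obj F, g' ⁻¹ᵁ U ⊓ f' ⁻¹ᵁ ⊤) :=
    Module.compHom _ (algebraMap A' Γ(X', g' ⁻¹ᵁ U ⊓ f' ⁻¹ᵁ ⊤))
  haveI : IsScalarTower A' Γ(X', g' ⁻¹ᵁ U ⊓ f' ⁻¹ᵁ ⊤)
      Γ((Scheme.Modules.pullback g').obj F, g' ⁻¹ᵁ U ⊓ f' ⁻¹ᵁ ⊤) :=
    IsScalarTower.of_algebraMap_smul (fun r m => rfl)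
  haveI : IsScalarTower A' Γ(Spec (CommRingCat.of A'), ⊤)
      Γ((Scheme.Modules.pullback g').obj F, g' ⁻¹ᵁ U ⊓ f' ⁻¹ᵁ ⊤) :=
    IsScalarTower.of_algebraMap_smul (fun r m => rfl)
  letI modBM' : Module Γ(X, U) Γ((Scheme.Modules.pullback g').obj F, g' ⁻¹ᵁ U ⊓ f' ⁻¹ᵁ ⊤) :=
    Module.compHom _ (algebraMap Γ(X, U) Γ(X', g' ⁻¹ᵁ U ⊓ f' ⁻¹ᵁ ⊤))
  haveI : IsScalarTower Γ(X, U) Γ(X', g' ⁻¹ᵁ U ⊓ f' ⁻¹ᵁ ⊤)
      Γ((Scheme.Modules.pullback g').obj F, g' ⁻¹ᵁ U ⊓ f' ⁻¹ᵁ ⊤) :=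
    IsScalarTower.of_algebraMap_smul (fun r m => rfl)
  letI modAM' : Module A Γ((Scheme.Modules.pullback g').obj F, g' ⁻¹ᵁ U ⊓ f' ⁻¹ᵁ ⊤) :=
    Module.compHom _ (algebraMap A A')
  haveI : IsScalarTower A A' Γ((Scheme.Modules.pullback g').obj F, g' ⁻¹ᵁ U ⊓ f' ⁻¹ᵁ ⊤) :=
    IsScalarTower.of_algebraMap_smul (fun r m => rfl)
  haveI : IsScalarTower A Γ(X, U) Γ((Scheme.Modules.pullback g').obj F, g' ⁻¹ᵁ U ⊓ f' ⁻¹ᵁ ⊤) :=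
    IsScalarTower.of_algebraMap_smul (fun a m => by
      change algebraMap Γ(X, U) Γ(X', g' ⁻¹ᵁ U ⊓ f' ⁻¹ᵁ ⊤) (algebraMap A Γ(X, U) a) • m =
        algebraMap A' Γ(X', g' ⁻¹ᵁ U ⊓ f' ⁻¹ᵁ ⊤) (algebraMap A A' a) • m
      rw [← IsScalarTower.algebraMap_apply A Γ(X, U), ← IsScalarTower.algebraMap_apply A A'])
  -- the base change map
  let eq := Groth.Agent.H44.pullbackSectionsEquiv g' F hU' hU e'
  let f₀ : Γ(F, U) →ₗ[Γ(X, U)] Γ((Scheme.Modules.pullback g').obj F, g' ⁻¹ᵁ U ⊓ f' ⁻¹ᵁ ⊤) :=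
    (eq.symm.toLinearMap.restrictScalars Γ(X, U)) ∘ₗ
      (TensorProduct.mk Γ(X, U) Γ(X', g' ⁻¹ᵁ U ⊓ f' ⁻¹ᵁ ⊤) Γ(F, U) 1)
  have hf₀ : IsBaseChange Γ(X', g' ⁻¹ᵁ U ⊓ f' ⁻¹ᵁ ⊤) f₀ :=
    IsBaseChange.of_equiv eq.symm (fun m => by
      simp only [f₀, LinearMap.coe_comp, Function.comp_apply, LinearMap.coe_restrictScalars,
        LinearEquiv.coe_coe, TensorProduct.mk_apply])
  have hA : IsBaseChange A' (f₀.restrictScalars A) :=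
    Groth.Agent.H70.FlatAtBC.isBaseChange_restrictScalars (R := A) f₀ hf₀
  have hbij : Function.Bijective (algebraMap A' Γ(Spec (CommRingCat.of A'), ⊤)) :=
    ConcreteCategory.bijective_of_isIso (Scheme.ΓSpecIso (CommRingCat.of A')).inv
  -- the point
  obtain ⟨x', hx'1, hx'2, hx'fl⟩ := hflat
  have hx'U' : x' ∈ g' ⁻¹ᵁ U ⊓ f' ⁻¹ᵁ ⊤ := ⟨by change g' x' ∈ U; rw [hx'1]; exact hxU, trivial⟩
  let Qp : Spec Γ(X', g' ⁻¹ᵁ U ⊓ f' ⁻¹ᵁ ⊤) := hU'.primeIdealOf ⟨x', hx'U'⟩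
  have hQp : hU'.fromSpec Qp = x' := hU'.fromSpec_primeIdealOf ⟨x', hx'U'⟩
  have hQ1 : Qp.asIdeal.comap (algebraMap Γ(X, U) Γ(X', g' ⁻¹ᵁ U ⊓ f' ⁻¹ᵁ ⊤)) =
      (hU.primeIdealOf ⟨x, hxU⟩).asIdeal := by
    have h1 : hU.fromSpec (Spec.map (g'.appLE U (g' ⁻¹ᵁ U ⊓ f' ⁻¹ᵁ ⊤) e') Qp) =
        hU.fromSpec (hU.primeIdealOf ⟨x, hxU⟩) := by
      rw [← map_fromSpec g' hU' hU e' Qp, hQp, hx'1]
      exact (hU.fromSpec_primeIdealOf ⟨x, hxU⟩).symm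
    have h2 := hU.fromSpec.isOpenEmbedding.injective h1
    exact congrArg PrimeSpectrum.asIdeal h2
  have hQ2 : Qp.asIdeal.comap (algebraMap A' Γ(X', g' ⁻¹ᵁ U ⊓ f' ⁻¹ᵁ ⊤)) =
      maximalIdeal A' := by
    have h1 : f' (hU'.fromSpec Qp) = IsLocalRing.closedPoint A' := by rw [hQp]; exact hx'2
    rw [map_fromSpec f' hU' (isAffineOpen_top _) e'' Qp, fromSpec_top_Spec] at h1
    exact congrArg PrimeSpectrum.asIdeal h1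
  have h1 := hx'fl
  rw [Groth.Agent.H70.FlatLocusGeo.isFlatOverAt_iff_flat_localizedModule f' _ hU'
    (isAffineOpen_top _) e'' hx'U'] at h1
  have hfl : Module.Flat A' (LocalizedModule Qp.asIdeal.primeCompl
      Γ((Scheme.Modules.pullback g').obj F, g' ⁻¹ᵁ U ⊓ f' ⁻¹ᵁ ⊤)) :=
    (Groth.Agent.H71.QCoh.flat_iff_of_bijective_algebraMap hbij).mp h1
  exact algebraMap_mem_of_relationQ (A' := A')
    (B' := Γ(X', g' ⁻¹ᵁ U ⊓ f' ⁻¹ᵁ ⊤)) f₀ hA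
    (hU.primeIdealOf ⟨x, hxU⟩).asIdeal Qp.asIdeal hQ1 hQ2 hfl hprim I' hI' v hv s c hc

end Groth.Agent.H56.Primary
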