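import Mathlib

/-!
# Transport of "primary residue field extension" along commutative squares (helper56)

* `FieldPrimary φ`: every element of the target which is separable over the source lies in the
  range of the field homomorphism `φ`.
* `HomPrimary φ`: the same for the residue field map of a local homomorphism of local rings.
* `homPrimary_of_square`, `homPrimary_of_square'`: transport along commutative squares.
-/

set_option autoImplicit false
set_option linter.style.haveILetI false

open IsLocalRing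

namespace Groth.Agent.H56.Primary

section Field

variable {k₁ K₁ k₂ K₂ : Type*} [Field k₁] [Field K₁] [Field k₂] [Field K₂]

/-- the source of `φ` is separably closed in the target -/
def FieldPrimary {k K : Type*} [Field k] [Field K] (φ : k →+* K) : Prop :=
  ∀ α : K, @IsSeparable k K _ _ φ.toAlgebra α → α ∈ φ.range

theorem fieldPrimary_of_square (φ₁ : k₁ →+* K₁) (φ₂ : k₂ →+* K₂) (ρ : k₁ →+* k₂) (σ : K₁ →+* K₂)
    (hcomm : σ.comp φ₁ = φ₂.comp ρ) (hρ : Function.Surjective ρ) (h₂ : FieldPrimary φ₂) :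
    FieldPrimary φ₁ := by
  letI := φ₁.toAlgebra
  letI := φ₂.toAlgebra
  intro α hα
  have hα' : (minpoly k₁ α).Separable := hα
  have hsep : ((minpoly k₁ α).map ρ).Separable := hα'.map
  have hroot : Polynomial.aeval (σ α) ((minpoly k₁ α).map ρ) = 0 := by
    rw [Polynomial.aeval_def, Polynomial.eval₂_map]
    have h1 : (algebraMap k₂ K₂).comp ρ = σ.comp (algebraMap k₁ K₁) := hcomm.symm
    rw [h1, ← Polynomial.hom_eval₂, ← Polynomial.aeval_def, minpoly.aeval, map_zero]
  have hsep' : IsSeparable k₂ (σ α) := hsep.of_dvd (minpoly.dvd k₂ (σ α) hroot)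
  obtain ⟨β₂, hβ₂⟩ := h₂ (σ α) hsep'
  obtain ⟨β₁, rfl⟩ := hρ β₂
  refine ⟨β₁, σ.injective ?_⟩
  rw [← hβ₂]
  exact congrFun (congrArg DFunLike.coe hcomm) β₁

theorem fieldPrimary_of_square' (φ₁ : k₁ →+* K₁) (φ₂ : k₂ →+* K₂) (ρ : k₁ →+* k₂)
    (σ : K₁ →+* K₂) (hcomm : σ.comp φ₁ = φ₂.comp ρ) (hρ : Function.Surjective ρ)
    (hσ : Function.Surjective σ) (h₁ : FieldPrimary φ₁) : FieldPrimary φ₂ := by
  let ρe := RingEquiv.ofBijective ρ ⟨ρ.injective, hρ⟩
  let σe := RingEquiv.ofBijective σ ⟨σ.injective, hσ⟩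
  refine fieldPrimary_of_square φ₂ φ₁ (ρe.symm : k₂ →+* k₁) (σe.symm : K₂ →+* K₁) ?_
    ρe.symm.surjective h₁
  ext x
  obtain ⟨y, rfl⟩ := hρ x
  change σe.symm (φ₂ (ρ y)) = φ₁ (ρe.symm (ρ y))
  have h1 : ρe.symm (ρ y) = y := ρe.symm_apply_apply y
  have h2 : φ₂ (ρ y) = σ (φ₁ y) := (congrFun (congrArg DFunLike.coe hcomm) y).symm
  rw [h1, h2]
  exact σe.symm_apply_apply (φ₁ y)

end Field

section Local

variable {R₁ S₁ R₂ S₂ : Type*} [CommRing R₁] [CommRing S₁] [CommRing R₂] [CommRing S₂]
  [IsLocalRing R₁] [IsLocalRing S₁] [IsLocalRing R₂] [IsLocalRing S₂]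

/-- the residue field extension of a local homomorphism is primary -/
def HomPrimary {R S : Type*} [CommRing R] [CommRing S] [IsLocalRing R] [IsLocalRing S]
    (φ : R →+* S) [IsLocalHom φ] : Prop :=
  FieldPrimary (ResidueField.map φ)

theorem homPrimary_of_square (φ₁ : R₁ →+* S₁) [IsLocalHom φ₁] (φ₂ : R₂ →+* S₂) [IsLocalHom φ₂]
    (ρ : R₁ →+* R₂) (σ : S₁ →+* S₂) [IsLocalHom σ]
    (hcomm : σ.comp φ₁ = φ₂.comp ρ) (hρ : Function.Surjective ρ) (h₂ : HomPrimary φ₂) :
    HomPrimary φ₁ := by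
  haveI : IsLocalHom ρ := IsLocalHom.of_surjective ρ hρ
  refine fieldPrimary_of_square _ _ (ResidueField.map ρ) (ResidueField.map σ) ?_ ?_ h₂
  · ext x
    obtain ⟨r, rfl⟩ := residue_surjective x
    change ResidueField.map σ (ResidueField.map φ₁ (residue R₁ r)) =
      ResidueField.map φ₂ (ResidueField.map ρ (residue R₁ r))
    rw [ResidueField.map_residue, ResidueField.map_residue, ResidueField.map_residue,
      ResidueField.map_residue]
    exact congrArg (residue S₂) (congrFun (congrArg DFunLike.coe hcomm) r)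
  · intro y
    obtain ⟨r₂, rfl⟩ := residue_surjective y
    obtain ⟨r₁, rfl⟩ := hρ r₂
    exact ⟨residue R₁ r₁, ResidueField.map_residue ρ r₁⟩

theorem homPrimary_of_square' (φ₁ : R₁ →+* S₁) [IsLocalHom φ₁] (φ₂ : R₂ →+* S₂) [IsLocalHom φ₂]
    (ρ : R₁ →+* R₂) (σ : S₁ →+* S₂)
    (hcomm : σ.comp φ₁ = φ₂.comp ρ) (hρ : Function.Surjective ρ) (hσ : Function.Surjective σ)
    (h₁ : HomPrimary φ₁) : HomPrimary φ₂ := by
  haveI : IsLocalHom ρ := IsLocalHom.of_surjective ρ hρ
  haveI : IsLocalHom σ := IsLocalHom.of_surjective σ hσ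
  refine fieldPrimary_of_square' _ _ (ResidueField.map ρ) (ResidueField.map σ) ?_ ?_ ?_ h₁
  · ext x
    obtain ⟨r, rfl⟩ := residue_surjective x
    change ResidueField.map σ (ResidueField.map φ₁ (residue R₁ r)) =
      ResidueField.map φ₂ (ResidueField.map ρ (residue R₁ r))
    rw [ResidueField.map_residue, ResidueField.map_residue, ResidueField.map_residue,
      ResidueField.map_residue]
    exact congrArg (residue S₂) (congrFun (congrArg DFunLike.coe hcomm) r)
  · intro y
    obtain ⟨r₂, rfl⟩ := residue_surjective y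
    obtain ⟨r₁, rfl⟩ := hρ r₂
    exact ⟨residue R₁ r₁, ResidueField.map_residue ρ r₁⟩
  · intro y
    obtain ⟨r₂, rfl⟩ := residue_surjective y
    obtain ⟨r₁, rfl⟩ := hσ r₂
    exact ⟨residue S₁ r₁, ResidueField.map_residue σ r₁⟩

/-- the algebra form of `HomPrimary` -/
theorem homPrimary_algebraMap_iff {R S : Type*} [CommRing R] [CommRing S] [IsLocalRing R]
    [IsLocalRing S] [Algebra R S] [IsLocalHom (algebraMap R S)] :
    HomPrimary (algebraMap R S) ↔ ∀ α : ResidueField S, IsSeparable (ResidueField R) α →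
      α ∈ Set.range (algebraMap (ResidueField R) (ResidueField S)) := by
  have halg : (ResidueField.map (algebraMap R S)).toAlgebra =
      (inferInstance : Algebra (ResidueField R) (ResidueField S)) := by
    refine Algebra.algebra_ext _ _ fun x => ?_
    obtain ⟨x, rfl⟩ := residue_surjective x
    rfl
  have hmap : ∀ x, ResidueField.map (algebraMap R S) x =
      algebraMap (ResidueField R) (ResidueField S) x := by
    intro x
    obtain ⟨x, rfl⟩ := residue_surjective x
    rfl
  unfold HomPrimary FieldPrimary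
  rw [halg]
  refine forall_congr' fun α => imp_congr_right fun _ => ?_
  constructor
  · rintro ⟨β, hβ⟩
    exact ⟨β, by rw [← hmap]; exact hβ⟩
  · rintro ⟨β, hβ⟩
    exact ⟨β, by rw [hmap]; exact hβ⟩

end Local

end Groth.Agent.H56.Primary
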