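import Mathlib
import Groth.Agent.H56.Flattening.Plumbing
import Groth.Agent.H56.FamFlat.Points
import Groth.Agent.H56.Primary.Transport

/-!
# The primary residue field extension: from schemes to charts (helper56)

* `homPrimary_of_comm_sq`: base change along morphisms which are surjective on stalks.
* `hprim_chart`: from the stalk map of `f : X ⟶ Spec A` at `x` to the local homomorphism
  `A → Γ(X, U)_q`.
-/

set_option autoImplicit false
set_option linter.style.haveILetI false

open CategoryTheory Limits AlgebraicGeometry TopologicalSpace Opposite IsLocalRing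

namespace Groth.Agent.H56.Primary

universe u

open Groth.Agent.H56.Flattening Groth.Agent.H56.FamFlat

section BC

variable {X Y X' Y' : Scheme.{u}} {f : X ⟶ Y} {g : Y' ⟶ Y} {g' : X' ⟶ X} {f' : X' ⟶ Y'}

/-- base change of the primary property along morphisms surjective on stalks -/
theorem homPrimary_of_comm_sq (h : g' ≫ f = f' ≫ g) [SurjectiveOnStalks g]
    [SurjectiveOnStalks g'] (x' : X') (hp : HomPrimary (f.stalkMap (g' x')).hom) :
    HomPrimary (f'.stalkMap x').hom := by
  have hpt : f (g' x') = g (f' x') := by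
    rw [← Scheme.Hom.comp_apply, ← Scheme.Hom.comp_apply, h]
  let ρ : Y.presheaf.stalk (f (g' x')) ⟶ Y'.presheaf.stalk (f' x') :=
    (Y.presheaf.stalkCongr (.of_eq hpt)).hom ≫ g.stalkMap (f' x')
  have hcomm : f.stalkMap (g' x') ≫ g'.stalkMap x' = ρ ≫ f'.stalkMap x' := by
    rw [← Scheme.Hom.stalkMap_comp, Scheme.Hom.stalkMap_congr_hom _ _ h, Scheme.Hom.stalkMap_comp]
    rfl
  refine homPrimary_of_square' (f.stalkMap (g' x')).hom (f'.stalkMap x').hom ρ.hom
    (g'.stalkMap x').hom ?_ ?_ (g'.stalkMap_surjective x') hp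
  · rw [← CommRingCat.hom_comp, ← CommRingCat.hom_comp, hcomm]
  · intro z
    obtain ⟨w, hw⟩ := g.stalkMap_surjective (f' x') z
    obtain ⟨v, hv⟩ :=
      (ConcreteCategory.bijective_of_isIso (Y.presheaf.stalkCongr (.of_eq hpt)).hom).2 w
    refine ⟨v, ?_⟩
    change ((Y.presheaf.stalkCongr (.of_eq hpt)).hom ≫ g.stalkMap (f' x')) v = z
    rw [CommRingCat.comp_apply, hv, hw]

end BC

section Chart

variable {A : Type u} [CommRing A] [IsLocalRing A] {X : Scheme.{u}}
  (f : X ⟶ Spec (CommRingCat.of A))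

set_option maxHeartbeats 1600000 in
/-- **the primary property on a chart** -/
theorem hprim_chart {U : X.Opens} (hU : IsAffineOpen U) {x : X} (hxU : x ∈ U)
    [Algebra A Γ(X, U)] (hAB : algebraMap A Γ(X, U) = baseHom f U)
    (hfx : f x = IsLocalRing.closedPoint A)
    [IsLocalHom (algebraMap A (Localization.AtPrime (hU.primeIdealOf ⟨x, hxU⟩).asIdeal))]
    (hprim : HomPrimary (f.stalkMap x).hom) :
    ∀ α : ResidueField (Localization.AtPrime (hU.primeIdealOf ⟨x, hxU⟩).asIdeal),
      IsSeparable (ResidueField A) α → α ∈ Set.range (algebraMap (ResidueField A)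
        (ResidueField (Localization.AtPrime (hU.primeIdealOf ⟨x, hxU⟩).asIdeal))) := by
  rw [← homPrimary_algebraMap_iff]
  have hYaff : IsAffineOpen (⊤ : (Spec (CommRingCat.of A)).Opens) := isAffineOpen_top _
  let e := IsAffineOpen.arrowStalkMapIso f ⊤ hYaff U hU le_top hxU
  -- the prime of `Γ(Spec A, ⊤)`
  have hp₀ : (hYaff.primeIdealOf ⟨f x, le_top (a := U) hxU⟩).asIdeal.comap
      (Scheme.ΓSpecIso (CommRingCat.of A)).inv.hom = maximalIdeal A := by
    have h1 : hYaff.fromSpec (hYaff.primeIdealOf ⟨f x, le_top (a := U) hxU⟩) = f x :=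
      hYaff.fromSpec_primeIdealOf ⟨f x, le_top (a := U) hxU⟩
    have h2 := h1.trans hfx
    rw [fromSpec_top_Spec] at h2
    exact congrArg PrimeSpectrum.asIdeal h2
  have hιsurj : Function.Surjective (Scheme.ΓSpecIso (CommRingCat.of A)).inv.hom :=
    (ConcreteCategory.bijective_of_isIso (Scheme.ΓSpecIso (CommRingCat.of A)).inv).2
  have hunits : (hYaff.primeIdealOf ⟨f x, le_top (a := U) hxU⟩).asIdeal.primeCompl ≤
      IsUnit.submonoid Γ(Spec (CommRingCat.of A), ⊤) := by
    intro s hs
    obtain ⟨a, rfl⟩ := hιsurj s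
    have ha : a ∉ maximalIdeal A := by
      rw [← hp₀]
      exact hs
    have hau : IsUnit a := by
      by_contra hna
      exact ha ((mem_maximalIdeal a).mpr hna)
    exact hau.map _
  have hlocsurj : Function.Surjective (algebraMap Γ(Spec (CommRingCat.of A), ⊤)
      (Localization.AtPrime (hYaff.primeIdealOf ⟨f x, le_top (a := U) hxU⟩).asIdeal)) := by
    intro y
    obtain ⟨r, hr⟩ := (IsLocalization.atUnits Γ(Spec (CommRingCat.of A), ⊤)
      (hYaff.primeIdealOf ⟨f x, le_top (a := U) hxU⟩).asIdeal.primeCompl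
      (S := Localization.AtPrime (hYaff.primeIdealOf ⟨f x, le_top (a := U) hxU⟩).asIdeal)
      hunits).surjective y
    refine ⟨r, ?_⟩
    rw [← hr]
    exact ((IsLocalization.atUnits Γ(Spec (CommRingCat.of A), ⊤)
      (hYaff.primeIdealOf ⟨f x, le_top (a := U) hxU⟩).asIdeal.primeCompl
      (S := Localization.AtPrime (hYaff.primeIdealOf ⟨f x, le_top (a := U) hxU⟩).asIdeal)
      hunits).commutes r).symm
  let ρ₀ : A →+* Localization.AtPrime (hYaff.primeIdealOf ⟨f x, le_top (a := U) hxU⟩).asIdeal :=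
    (algebraMap Γ(Spec (CommRingCat.of A), ⊤) _).comp
      (Scheme.ΓSpecIso (CommRingCat.of A)).inv.hom
  have hρ₀ : Function.Surjective ρ₀ := hlocsurj.comp hιsurj
  haveI : IsIso e.inv.right := inferInstance
  haveI : IsLocalHom e.inv.right.hom := inferInstance
  refine homPrimary_of_square (algebraMap A _) (f.stalkMap x).hom (e.inv.left.hom.comp ρ₀)
    e.inv.right.hom ?_ ?_ hprim
  · ext a
    have hw := congrArg (fun k => k.hom (ρ₀ a)) e.inv.w
    simp only [Arrow.mk_hom, CommRingCat.hom_comp, CommRingCat.hom_ofHom, RingHom.comp_apply]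
      at hw
    have hρa : ρ₀ a = algebraMap Γ(Spec (CommRingCat.of A), ⊤) _
        ((Scheme.ΓSpecIso (CommRingCat.of A)).inv.hom a) := rfl
    rw [hρa, Localization.localRingHom_to_map] at hw
    change e.inv.right.hom (algebraMap A
      (Localization.AtPrime (hU.primeIdealOf ⟨x, hxU⟩).asIdeal) a) =
      (f.stalkMap x).hom (e.inv.left.hom (ρ₀ a))
    rw [hρa, hw, IsScalarTower.algebraMap_apply A Γ(X, U), hAB]
    rfl
  · exact (ConcreteCategory.bijective_of_isIso e.inv.left).2.comp hρ₀

end Chart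

end Groth.Agent.H56.Primary
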